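import Cfsg.Agent.Lib.TCX.F24b.C0
import Cfsg.Agent.Lib.TCX.Cert

set_option autoImplicit false
set_option maxRecDepth 100000
set_option Elab.async false

namespace Cfsg.Agent.TCX.F24b

open Cfsg.Agent.CG

/-- The relators used. -/
noncomputable def R : List (List ℕ) := [[1,1],
  [2,2],
  [0,0],
  [10,10],
  [11,11],
  [0,2,0,2],
  [0,1,0,1,0,1],
  [1,10,1,10],
  [0,11,0,11],
  [10,11,10,11,10,11],
  [1,11,1,11],
  [0,10,0,10,0,10],
  [1,2,1,2,1,2],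
  [2,10,2,10],
  [2,11,2,11],
  [3,3],
  [4,4],
  [5,5],
  [6,6],
  [7,7],
  [8,8],
  [9,9],
  [12,12],
  [3,10,3,10],
  [4,10,4,10],
  [5,10,5,10],
  [6,10,6,10],
  [7,10,7,10],
  [8,10,8,10],
  [10,12,10,12],
  [0,3,0,3],
  [0,4,0,4],
  [0,5,0,5],
  [0,6,0,6],
  [0,7,0,7],
  [0,8,0,8],
  [0,12,0,12],
  [3,11,3,11],
  [4,11,4,11],
  [5,11,5,11],
  [6,11,6,11],
  [7,11,7,11],
  [8,11,8,11],
  [11,12,11,12],
  [1,3,1,3],
  [1,4,1,4],
  [1,5,1,5],
  [1,6,1,6],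
  [1,7,1,7],
  [1,8,1,8],
  [1,12,1,12],
  [2,4,2,4],
  [2,5,2,5],
  [2,6,2,6],
  [2,7,2,7],
  [2,8,2,8],
  [2,12,2,12],
  [3,5,3,5],
  [3,6,3,6],
  [3,7,3,7],
  [3,12,3,12],
  [2,3,2,3,2,3],
  [4,6,4,6],
  [4,7,4,7],
  [4,12,4,12],
  [3,4,3,4,3,4],
  [5,7,5,7],
  [5,12,5,12],
  [6,12,6,12],
  [7,8,7,8],
  [8,12,8,12],
  [6,8,6,8],
  [5,8,5,8],
  [4,8,4,8],
  [3,8,3,8,3,8],
  [4,5,4,5,4,5],
  [0,1,2,3,4,5,8,0,1,2,3,4,5,8,0,1,2,3,4,5,8,0,1,2,3,4,5,8,0,1,2,3,4,5,8,0,1,2,3,4,5,8,0,1,2,3,4,5,8,0,1,2,3,4,5,8,0,1,2,3,4,5,8,11]]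

noncomputable def invL : List ℕ := [0,1,2,3,4,5,6,7,8,9,10,11,12]

/-- How the relators used follow from the given ones. -/
noncomputable def hints : List (ℕ × Bool × List ℕ) := [(93,false,[]),
  (93,false,[]),
  (93,false,[]),
  (93,false,[]),
  (93,false,[]),
  (13,false,[]),
  (12,false,[]),
  (31,false,[]),
  (22,false,[]),
  (77,false,[]),
  (32,false,[]),
  (21,false,[]),
  (23,false,[]),
  (40,false,[]),
  (41,false,[]),
  (93,false,[]),
  (93,false,[]),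
  (93,false,[]),
  (93,false,[]),
  (93,false,[]),
  (93,false,[]),
  (93,false,[]),
  (93,false,[]),
  (48,false,[]),
  (55,false,[]),
  (61,false,[]),
  (66,false,[]),
  (70,false,[]),
  (73,false,[]),
  (90,false,[]),
  (14,false,[]),
  (15,false,[]),
  (16,false,[]),
  (17,false,[]),
  (18,false,[]),
  (19,false,[]),
  (81,false,[]),
  (49,false,[]),
  (56,false,[]),
  (62,false,[]),
  (67,false,[]),
  (71,false,[]),
  (74,false,[]),
  (91,false,[]),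
  (24,false,[]),
  (25,false,[]),
  (26,false,[]),
  (27,false,[]),
  (28,false,[]),
  (29,false,[]),
  (82,false,[]),
  (34,false,[]),
  (35,false,[]),
  (36,false,[]),
  (37,false,[]),
  (38,false,[]),
  (83,false,[]),
  (43,false,[]),
  (44,false,[]),
  (45,false,[]),
  (84,false,[]),
  (33,false,[]),
  (51,false,[]),
  (52,false,[]),
  (85,false,[]),
  (42,false,[]),
  (58,false,[]),
  (86,false,[]),
  (87,false,[]),
  (68,false,[]),
  (88,false,[]),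
  (64,false,[]),
  (59,false,[]),
  (53,false,[]),
  (46,false,[]),
  (50,false,[]),
  (78,true,[])]

theorem l0all : ∀ a, a < 14 → l0f a = 0 :=
  allz_of_orR c0
theorem l0ru : allLt (rusChk R (nat_lit 13) l0R) 14 = true := by decide +kernel
noncomputable def l0W : List (List ℕ) := [[10,11,0,10,1,0,2,1,10,11,0,10,1,0,2,1,10,11,0,10,1,0,2,1],
  [10,11,0,10,1,10,11,0,10,1,0,10,0,1],
  [10,1,0,2,1,10,11,0,10,1,10,11,0,10,1,0,2,1],
  [10,11,0,10,11,10,11,0,10,0],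
  [10,11,0,10,10,11,0,10],
  [1,0,2,1,1,0,2,1],
  [1,0,2,1,0,1,0,2,1,2]]
theorem l0_ok : Mem R [] l0W :=
  mem_of_chk (q := 8) (d := 1) (s2 := 24) (full := 1) (f := l0f) (by decide +kernel) (by decide +kernel) (fun _ => rfl) l0all l0ru (by decide +kernel) (by decide +kernel)

theorem l1all : ∀ a, a < 14 → l1f a = 0 :=
  allz_of_orR c1
theorem l1ru : allLt (rusChk R (nat_lit 13) l1R) 14 = true := by decide +kernel
noncomputable def l1W : List (List ℕ) := [[10,11,0,10,1,0,2,1,3,2,4,3,5,4,6,5,7,6,12,7,8,7,12,6,7,5,6,4,5,3,4,2,3,1,2,0,1,10,11,0,10]]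
theorem l1_ok : Mem R [0,1,2,3,4,5,6,7,8,11,12] l1W :=
  mem_of_chk (q := 8) (d := 1) (s2 := 24) (full := 1) (f := l1f) (by decide +kernel) (by decide +kernel) (fun _ => rfl) l1all l1ru (by decide +kernel) (by decide +kernel)


end Cfsg.Agent.TCX.F24b
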