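import Cfsg.Agent.Lib.TCX.F24b.D0

set_option autoImplicit false
set_option maxRecDepth 100000
set_option Elab.async false

namespace Cfsg.Agent.TCX.F24b

noncomputable def l0r0 : Bt Ru := (.node (.node (.node (.leaf ⟨[0],2,0⟩) (.leaf ⟨[2,0,2],5,0⟩)) (.node (.leaf ⟨[1,0,1,0,1],6,0⟩) (.leaf ⟨[0],2,0⟩))) (.node (.node (.leaf ⟨[11,0,11],8,0⟩) (.leaf ⟨[0],2,0⟩)) (.node (.leaf ⟨[10,0,10,0,10],11,0⟩) (.leaf ⟨[0],2,0⟩))))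
noncomputable def l0r1 : Bt Ru := (.node (.node (.node (.leaf ⟨[1],0,0⟩) (.leaf ⟨[11,1,11],10,0⟩)) (.node (.leaf ⟨[10,1,10],7,0⟩) (.leaf ⟨[1],0,0⟩))) (.node (.node (.leaf ⟨[0,1,0,1,0],6,5⟩) (.leaf ⟨[1],0,0⟩)) (.node (.leaf ⟨[2,1,2,1,2],12,0⟩) (.leaf ⟨[1],0,0⟩))))
noncomputable def l0r2 : Bt Ru := (.node (.node (.leaf ⟨[2],1,0⟩) (.leaf ⟨[10,2,10],13,0⟩)) (.node (.leaf ⟨[0,2,0],5,3⟩) (.leaf ⟨[2],1,0⟩)))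
noncomputable def l0r3 : Bt Ru := (.leaf ⟨[3],15,0⟩)
noncomputable def l0r4 : Bt Ru := (.leaf ⟨[4],16,0⟩)
noncomputable def l0r5 : Bt Ru := (.leaf ⟨[5],17,0⟩)
noncomputable def l0r6 : Bt Ru := (.leaf ⟨[6],18,0⟩)
noncomputable def l0r7 : Bt Ru := (.leaf ⟨[7],19,0⟩)
noncomputable def l0r8 : Bt Ru := (.leaf ⟨[8],20,0⟩)
noncomputable def l0r9 : Bt Ru := (.leaf ⟨[9],21,0⟩)
noncomputable def l0r10 : Bt Ru := (.node (.node (.leaf ⟨[10],3,0⟩) (.leaf ⟨[1,10,1],7,3⟩)) (.node (.leaf ⟨[0,10,0,10,0],11,5⟩) (.leaf ⟨[2,10,2],13,3⟩)))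
noncomputable def l0r11 : Bt Ru := (.node (.node (.node (.leaf ⟨[11],4,0⟩) (.leaf ⟨[0,11,0],8,3⟩)) (.node (.leaf ⟨[1,11,1],10,3⟩) (.leaf ⟨[11],4,0⟩))) (.node (.node (.leaf ⟨[10,11,10,11,10],9,5⟩) (.leaf ⟨[11],4,0⟩)) (.node (.leaf ⟨[2,11,2],14,3⟩) (.leaf ⟨[11],4,0⟩))))
noncomputable def l0r12 : Bt Ru := (.leaf ⟨[12],22,0⟩)
noncomputable def l0r13 : Bt Ru := (.node (.node (.leaf ⟨[11,1,11,1],10,3⟩) (.leaf ⟨[10,2,10,2],13,3⟩)) (.node (.leaf ⟨[0,11,0,11],8,0⟩) (.leaf ⟨[10,11,10,11,10,11],9,0⟩)))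
noncomputable def l1r0 : Bt Ru := (.node (.node (.node (.node (.leaf ⟨[0],2,0⟩) (.leaf ⟨[5,0,5],32,0⟩)) (.node (.leaf ⟨[2,0,2],5,0⟩) (.leaf ⟨[0],2,0⟩))) (.node (.node (.leaf ⟨[1,0,1,0,1],6,0⟩) (.leaf ⟨[0],2,0⟩)) (.node (.leaf ⟨[8,0,8],35,0⟩) (.leaf ⟨[0],2,0⟩)))) (.node (.node (.node (.leaf ⟨[10,0,10,0,10],11,0⟩) (.leaf ⟨[6,0,6],33,0⟩)) (.node (.leaf ⟨[4,0,4],31,0⟩) (.leaf ⟨[0],2,0⟩))) (.node (.node (.leaf ⟨[3,0,3],30,0⟩) (.leaf ⟨[0],2,0⟩)) (.node (.leaf ⟨[11,0,11],8,0⟩) (.leaf ⟨[0],2,0⟩)))))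
noncomputable def l1r1 : Bt Ru := (.node (.node (.node (.node (.leaf ⟨[10,1,10],7,0⟩) (.leaf ⟨[6,1,6],47,0⟩)) (.node (.leaf ⟨[4,1,4],45,0⟩) (.leaf ⟨[1],0,0⟩))) (.node (.node (.leaf ⟨[0,1,0,1,0],6,5⟩) (.leaf ⟨[1],0,0⟩)) (.node (.leaf ⟨[8,1,8],49,0⟩) (.leaf ⟨[1],0,0⟩)))) (.node (.node (.node (.leaf ⟨[1],0,0⟩) (.leaf ⟨[1],0,0⟩)) (.node (.leaf ⟨[3,1,3],44,0⟩) (.leaf ⟨[1],0,0⟩))) (.node (.node (.leaf ⟨[2,1,2,1,2],12,0⟩) (.leaf ⟨[1],0,0⟩)) (.node (.leaf ⟨[5,1,5],46,0⟩) (.leaf ⟨[1],0,0⟩)))))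
noncomputable def l1r2 : Bt Ru := (.node (.node (.node (.node (.leaf ⟨[10,2,10],13,0⟩) (.leaf ⟨[5,2,5],52,0⟩)) (.node (.leaf ⟨[1,2,1,2,1],12,5⟩) (.leaf ⟨[2],1,0⟩))) (.node (.node (.leaf ⟨[11,2,11],14,0⟩) (.leaf ⟨[7,2,7],54,0⟩)) (.node (.leaf ⟨[8,2,8],55,0⟩) (.leaf ⟨[2],1,0⟩)))) (.node (.node (.node (.leaf ⟨[0,2,0],5,3⟩) (.leaf ⟨[6,2,6],53,0⟩)) (.node (.leaf ⟨[3,2,3,2,3],61,0⟩) (.leaf ⟨[2],1,0⟩))) (.node (.node (.leaf ⟨[2],1,0⟩) (.leaf ⟨[2],1,0⟩)) (.node (.leaf ⟨[4,2,4],51,0⟩) (.leaf ⟨[2],1,0⟩)))))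
noncomputable def l1r3 : Bt Ru := (.node (.node (.node (.node (.leaf ⟨[10,3,10],23,0⟩) (.leaf ⟨[5,3,5],57,0⟩)) (.node (.leaf ⟨[3],15,0⟩) (.leaf ⟨[3],15,0⟩))) (.node (.node (.leaf ⟨[11,3,11],37,0⟩) (.leaf ⟨[12,3,12],60,0⟩)) (.node (.leaf ⟨[4,3,4,3,4],65,0⟩) (.leaf ⟨[3],15,0⟩)))) (.node (.node (.node (.leaf ⟨[0,3,0],30,3⟩) (.leaf ⟨[7,3,7],59,0⟩)) (.node (.leaf ⟨[2,3,2,3,2],61,5⟩) (.leaf ⟨[3],15,0⟩))) (.node (.node (.leaf ⟨[1,3,1],44,3⟩) (.leaf ⟨[8,3,8,3,8],74,0⟩)) (.node (.leaf ⟨[6,3,6],58,0⟩) (.leaf ⟨[3],15,0⟩)))))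
noncomputable def l1r4 : Bt Ru := (.node (.node (.node (.node (.leaf ⟨[10,4,10],24,0⟩) (.leaf ⟨[5,4,5,4,5],75,0⟩)) (.node (.leaf ⟨[2,4,2],51,3⟩) (.leaf ⟨[4],16,0⟩))) (.node (.node (.leaf ⟨[11,4,11],38,0⟩) (.leaf ⟨[4],16,0⟩)) (.node (.leaf ⟨[3,4,3,4,3],65,5⟩) (.leaf ⟨[4],16,0⟩)))) (.node (.node (.node (.leaf ⟨[0,4,0],31,3⟩) (.leaf ⟨[4],16,0⟩)) (.node (.leaf ⟨[4],16,0⟩) (.leaf ⟨[4],16,0⟩))) (.node (.node (.leaf ⟨[1,4,1],45,3⟩) (.leaf ⟨[4],16,0⟩)) (.node (.leaf ⟨[8,4,8],73,0⟩) (.leaf ⟨[4],16,0⟩)))))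
noncomputable def l1r5 : Bt Ru := (.node (.node (.node (.node (.leaf ⟨[10,5,10],25,0⟩) (.leaf ⟨[4,5,4,5,4],75,5⟩)) (.node (.leaf ⟨[2,5,2],52,3⟩) (.leaf ⟨[5],17,0⟩))) (.node (.node (.leaf ⟨[11,5,11],39,0⟩) (.leaf ⟨[5],17,0⟩)) (.node (.leaf ⟨[5],17,0⟩) (.leaf ⟨[5],17,0⟩)))) (.node (.node (.node (.leaf ⟨[0,5,0],32,3⟩) (.leaf ⟨[5],17,0⟩)) (.node (.leaf ⟨[3,5,3],57,3⟩) (.leaf ⟨[5],17,0⟩))) (.node (.node (.leaf ⟨[1,5,1],46,3⟩) (.leaf ⟨[5],17,0⟩)) (.node (.leaf ⟨[8,5,8],72,0⟩) (.leaf ⟨[5],17,0⟩)))))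
noncomputable def l1r6 : Bt Ru := (.node (.node (.node (.node (.leaf ⟨[10,6,10],26,0⟩) (.leaf ⟨[8,6,8],71,0⟩)) (.node (.leaf ⟨[2,6,2],53,3⟩) (.leaf ⟨[6],18,0⟩))) (.node (.node (.leaf ⟨[11,6,11],40,0⟩) (.leaf ⟨[6],18,0⟩)) (.node (.leaf ⟨[4,6,4],62,3⟩) (.leaf ⟨[6],18,0⟩)))) (.node (.node (.node (.leaf ⟨[0,6,0],33,3⟩) (.leaf ⟨[6],18,0⟩)) (.node (.leaf ⟨[3,6,3],58,3⟩) (.leaf ⟨[6],18,0⟩))) (.node (.node (.leaf ⟨[1,6,1],47,3⟩) (.leaf ⟨[6],18,0⟩)) (.node (.leaf ⟨[6],18,0⟩) (.leaf ⟨[6],18,0⟩)))))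
noncomputable def l1r7 : Bt Ru := (.node (.node (.node (.node (.leaf ⟨[10,7,10],27,0⟩) (.leaf ⟨[7],19,0⟩)) (.node (.leaf ⟨[2,7,2],54,3⟩) (.leaf ⟨[7],19,0⟩))) (.node (.node (.leaf ⟨[11,7,11],41,0⟩) (.leaf ⟨[7],19,0⟩)) (.node (.leaf ⟨[4,7,4],63,3⟩) (.leaf ⟨[7],19,0⟩)))) (.node (.node (.node (.leaf ⟨[0,7,0],34,3⟩) (.leaf ⟨[8,7,8],69,0⟩)) (.node (.leaf ⟨[3,7,3],59,3⟩) (.leaf ⟨[7],19,0⟩))) (.node (.node (.leaf ⟨[1,7,1],48,3⟩) (.leaf ⟨[7],19,0⟩)) (.node (.leaf ⟨[5,7,5],66,3⟩) (.leaf ⟨[7],19,0⟩)))))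
noncomputable def l1r8 : Bt Ru := (.node (.node (.node (.node (.leaf ⟨[10,8,10],28,0⟩) (.leaf ⟨[6,8,6],71,3⟩)) (.node (.leaf ⟨[2,8,2],55,3⟩) (.leaf ⟨[8],20,0⟩))) (.node (.node (.leaf ⟨[11,8,11],42,0⟩) (.leaf ⟨[4,8,4],73,3⟩)) (.node (.leaf ⟨[7,8,7],69,3⟩) (.leaf ⟨[8],20,0⟩)))) (.node (.node (.node (.leaf ⟨[0,8,0],35,3⟩) (.leaf ⟨[5,8,5],72,3⟩)) (.node (.leaf ⟨[8],20,0⟩) (.leaf ⟨[8],20,0⟩))) (.node (.node (.leaf ⟨[1,8,1],49,3⟩) (.leaf ⟨[3,8,3,8,3],74,5⟩)) (.node (.leaf ⟨[12,8,12],70,0⟩) (.leaf ⟨[8],20,0⟩)))))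
noncomputable def l1r9 : Bt Ru := (.leaf ⟨[9],21,0⟩)
noncomputable def l1r10 : Bt Ru := (.node (.node (.node (.node (.leaf ⟨[10],3,0⟩) (.leaf ⟨[5,10,5],25,3⟩)) (.node (.leaf ⟨[3,10,3],23,3⟩) (.leaf ⟨[10],3,0⟩))) (.node (.node (.leaf ⟨[2,10,2],13,3⟩) (.leaf ⟨[10],3,0⟩)) (.node (.leaf ⟨[8,10,8],28,3⟩) (.leaf ⟨[10],3,0⟩)))) (.node (.node (.node (.leaf ⟨[0,10,0,10,0],11,5⟩) (.leaf ⟨[6,10,6],26,3⟩)) (.node (.leaf ⟨[4,10,4],24,3⟩) (.leaf ⟨[10],3,0⟩))) (.node (.node (.leaf ⟨[1,10,1],7,3⟩) (.leaf ⟨[10],3,0⟩)) (.node (.leaf ⟨[11,10,11,10,11],9,0⟩) (.leaf ⟨[10],3,0⟩)))))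
noncomputable def l1r11 : Bt Ru := (.node (.node (.node (.leaf ⟨[11],4,0⟩) (.leaf ⟨[2,11,2],14,3⟩)) (.node (.leaf ⟨[1,11,1],10,3⟩) (.leaf ⟨[4,11,4],38,3⟩))) (.node (.node (.leaf ⟨[10,11,10,11,10],9,5⟩) (.leaf ⟨[3,11,3],37,3⟩)) (.node (.leaf ⟨[0,11,0],8,3⟩) (.leaf ⟨[11],4,0⟩))))
noncomputable def l1r12 : Bt Ru := (.node (.node (.node (.node (.leaf ⟨[10,12,10],29,3⟩) (.leaf ⟨[6,12,6],68,3⟩)) (.node (.leaf ⟨[2,12,2],56,3⟩) (.leaf ⟨[12],22,0⟩))) (.node (.node (.leaf ⟨[11,12,11],43,3⟩) (.leaf ⟨[8,12,8],70,3⟩)) (.node (.leaf ⟨[4,12,4],64,3⟩) (.leaf ⟨[12],22,0⟩)))) (.node (.node (.node (.leaf ⟨[0,12,0],36,3⟩) (.leaf ⟨[12],22,0⟩)) (.node (.leaf ⟨[3,12,3],60,3⟩) (.leaf ⟨[12],22,0⟩))) (.node (.node (.leaf ⟨[1,12,1],50,3⟩) (.leaf ⟨[12],22,0⟩)) (.node (.leaf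 ⟨[5,12,5],67,3⟩) (.leaf ⟨[12],22,0⟩)))))
noncomputable def l1r13 : Bt Ru := (.node (.node (.leaf ⟨[8,3,8,3,8,3],74,5⟩) (.leaf ⟨[2,1,2,1,2,1],12,5⟩)) (.node (.leaf ⟨[2,3,4,5,8,0,1,2,3,4,5,8,0,1,2,3,4,5,8,11,0,1,2,3,4,5,8,0,1,2,3,4,5,8,0,1,2,3,4,5,8,0,1,2,3,4,5,8,0,1,2,3,4,5,8,0,1,2,3,4,5,8,0,1],76,44⟩) (.leaf ⟨[0,0],2,0⟩)))
noncomputable def l0T : List (Bt Nat) := [l0t0, l0t1, l0t2, (.leaf (nat_lit 0)), (.leaf (nat_lit 0)), (.leaf (nat_lit 0)), (.leaf (nat_lit 0)), (.leaf (nat_lit 0)), (.leaf (nat_lit 0)), (.leaf (nat_lit 0)), l0t10, l0t11, (.leaf (nat_lit 0)), l0t13, l0t14]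
noncomputable def l0R : List (Bt Ru) := [l0r0, l0r1, l0r2, l0r3, l0r4, l0r5, l0r6, l0r7, l0r8, l0r9, l0r10, l0r11, l0r12, l0r13]
noncomputable def l0c (a lo cnt : Nat) : Nat := chk (gT l0T (nat_lit 14)) (rT l0R) (nat_lit 14) (nat_lit 0x7fc0) (nat_lit 0x4000) (nat_lit 0x3fc0) (nat_lit 13) (nat_lit 15) (nat_lit 511) (nat_lit 0x8000000000ffffff) (nat_lit 7) (nat_lit 12) (nat_lit 0) (nat_lit 0x4000) a (nfOf [] 0 a) lo cnt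
noncomputable def l0f (a : Nat) : Nat := l0c a 0 1
noncomputable def l0m (lo cnt : Nat) : Nat := chkM (gT l0T (nat_lit 14)) (nat_lit 14) (nat_lit 0x7fc0) (nat_lit 0x4000) (nat_lit 0x3fc0) (nat_lit 13) lo cnt
noncomputable def l1T : List (Bt Nat) := [l1t0, l1t1, l1t2, l1t3, l1t4, l1t5, l1t6, l1t7, l1t8, (.leaf (nat_lit 0)), l1t10, l1t11, l1t12, l1t13, l1t14]
noncomputable def l1R : List (Bt Ru) := [l1r0, l1r1, l1r2, l1r3, l1r4, l1r5, l1r6, l1r7, l1r8, l1r9, l1r10, l1r11, l1r12, l1r13]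
noncomputable def l1c (a lo cnt : Nat) : Nat := chk (gT l1T (nat_lit 14)) (rT l1R) (nat_lit 14) (nat_lit 0x7fc0) (nat_lit 0x4000) (nat_lit 0x3fc0) (nat_lit 13) (nat_lit 15) (nat_lit 511) (nat_lit 0x8000000000ffffff) (nat_lit 14) (nat_lit 26) (nat_lit 6655) (nat_lit 0x4000) a (nfOf [] 0 a) lo cnt
noncomputable def l1f (a : Nat) : Nat := l1c a 0 1
noncomputable def l1m (lo cnt : Nat) : Nat := chkM (gT l1T (nat_lit 14)) (nat_lit 14) (nat_lit 0x7fc0) (nat_lit 0x4000) (nat_lit 0x3fc0) (nat_lit 13) lo cnt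

end Cfsg.Agent.TCX.F24b
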